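import Cfsg.Agent.LThreeCo1.Ev
import Cfsg.Agent.MFive.FixN
import Cfsg.Agent.MFive.Fus
import Cfsg.Agent.S0399
import Cfsg.Agent.FastGrp
import Cfsg.Agent.Prune
set_option linter.all false

section
prune_inst 0x7ff3fffffffcffffffff7e7ffff9dffd9bd3dfffefdff9fbffe9ebffffbf23e7abc5fba7ede4d0fedef6e2b410b87853fb7eeeffe86fdc7ffffdfff45ffbee5ff7ffbd0951d2942e1ffc6ffffbf17fae7f3fffffffffffffffffffffffffffffffffffffffff

-- part: BpSevenCo/Data
section
prune_inst 0xc000000000000000001800000200000000000000000000002000000001000000a0000001000000000000000000000000001000000000000000000000000000000000000080080000000000000000000000000000000000000000000000000000000000000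
set_option linter.all false
open scoped Cfsg.Agent.FastGrp

/-- decoders of the packed data (elaboration time only) -/
private noncomputable def pk61d (b S i : Nat) : Nat := Nat.mod (Nat.shiftRight S (Nat.mul b i)) (Nat.shiftLeft (nat_lit 1) b)
private noncomputable def pk61c {α : Type} (t : Nat) (a : α) (f : Nat → α) : α := Nat.rec a (fun k _ => f k) t
private noncomputable def pk61f {α : Type} (t : Nat) (f : Nat → α) : α := Nat.rec (f Nat.zero) (fun k _ => f (Nat.succ k)) t
private noncomputable def pk61z (t : Nat) : Int := pk61f t fun t =>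
  pk61c (Nat.mod t (nat_lit 2)) (Int.ofNat (Nat.div t (nat_lit 2))) fun _ => Int.negSucc (Nat.div t (nat_lit 2))
private noncomputable def pk61l {α : Type} (f : Nat → α) (s e : Nat) (tl : List α) : List α :=
  pk61f e fun e => Nat.rec tl (fun k ih => List.cons (pk61f (Nat.sub e (Nat.succ k)) f) ih) (Nat.sub e s)
private noncomputable def pk61o {α : Type} (O : (n : Nat) → OfNat α n → α) (I : (n : Nat) → OfNat α n) (t : Nat) : α :=
  pk61c t (O (nat_lit 0) (I (nat_lit 0))) fun k => O (Nat.succ k) (I (Nat.succ k))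
private noncomputable def pk61y (O : (n : Nat) → OfNat Int n → Int) (I : (n : Nat) → OfNat Int n) (G : Int → Int) (t : Nat) : Int := pk61f t fun t =>
  pk61c (Nat.mod t (nat_lit 2)) (pk61o O I (Nat.div t (nat_lit 2))) fun _ => G (pk61o O I (Nat.succ (Nat.div t (nat_lit 2))))


namespace Cfsg.Agent.Co0Q_BpSevenCo_Data

open Cfsg Cfsg.Agent.SporadicA Cfsg.Agent.SporadicStructure.Co0Matrix Cfsg.Agent.CoOneType.CoFast Finset

/-- dot product with two accumulators -/
private noncomputable def dk (r : List ℤ) : List ℤ → ℕ → ℕ → ℤ :=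
  List.rec (fun _ P N => Int.subNatNat P N) (fun a _ ih l P N => List.rec (Int.subNatNat P N) (fun b t _ =>
    Int.rec (fun x => Int.rec (fun y => ih t (Nat.add P (Nat.mul x y)) N) (fun y => ih t P (Nat.add N (Nat.mul x (Nat.succ y)))) b)
      (fun x => Int.rec (fun y => ih t P (Nat.add N (Nat.mul (Nat.succ x) y)))
        (fun y => ih t (Nat.add P (Nat.mul (Nat.succ x) (Nat.succ y))) N) b) a) l) r

private theorem dk_eq : ∀ (r l : List ℤ) (P N : ℕ), dk r l P N = P - N + dotL r l
  | [], l, P, N => by rw [dotL_nil_left, add_zero]; exact Int.subNatNat_eq_coe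
  | a :: s, [], P, N => by rw [dotL_nil_right, add_zero]; exact Int.subNatNat_eq_coe
  | .ofNat x :: s, .ofNat y :: t, P, N => (dk_eq s t (P + x * y) N).trans (by
      rw [dotL_cons, Int.ofNat_eq_natCast, Int.ofNat_eq_natCast]; push_cast; ring)
  | .ofNat x :: s, .negSucc y :: t, P, N => (dk_eq s t P (N + x * (y + 1))).trans (by
      rw [dotL_cons, Int.ofNat_eq_natCast, Int.negSucc_eq]; push_cast; ring)
  | .negSucc x :: s, .ofNat y :: t, P, N => (dk_eq s t P (N + (x + 1) * y)).trans (by
      rw [dotL_cons, Int.ofNat_eq_natCast, Int.negSucc_eq]; push_cast; ring)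
  | .negSucc x :: s, .negSucc y :: t, P, N => (dk_eq s t (P + (x + 1) * (y + 1)) N).trans (by
      rw [dotL_cons, Int.negSucc_eq, Int.negSucc_eq]; push_cast; ring)

private theorem dk0 (r l : List ℤ) : dk r l 0 0 = dotL r l := by rw [dk_eq]; simp

/-- entry -/
private def en (A : List (List ℤ)) (i j : ℕ) : ℤ := (A.getD i []).getD j 0

/-- shape and size of the entries -/
private def sh (A : List (List ℤ)) : Bool := A.all fun r => Nat.beq r.length 24 && r.all fun a => Nat.ble a.natAbs 1000

private theorem sh_len {A : List (List ℤ)} (h : sh A = true) {r : List ℤ} (hr : r ∈ A) : r.length = 24 :=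
  Nat.eq_of_beq_eq_true (Bool.and_eq_true_iff.1 (List.all_eq_true.1 h r hr)).1

private theorem sh_le {A : List (List ℤ)} (h : sh A = true) (i : ℕ) : (A.getD i []).length ≤ 24 := by
  by_cases hi : i < A.length
  · exact (sh_len h (getD_mem_of_lt A [] hi)).le
  · rw [List.getD_eq_default _ _ (not_lt.1 hi)]; exact Nat.zero_le _

private theorem sh_abs {A : List (List ℤ)} (h : sh A = true) (i j : ℕ) : |en A i j| ≤ 1000 := by
  unfold en
  by_cases hi : i < A.length
  · by_cases hj : j < (A.getD i []).length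
    · have := Nat.le_of_ble_eq_true (List.all_eq_true.1 (Bool.and_eq_true_iff.1 (List.all_eq_true.1 h _ (getD_mem_of_lt A [] hi))).2 _
        (getD_mem_of_lt _ 0 hj))
      rw [Int.abs_eq_natAbs]; exact_mod_cast this
    · rw [List.getD_eq_default _ _ (not_lt.1 hj)]; decide
  · rw [List.getD_eq_default _ _ (not_lt.1 hi), List.getD_nil]; decide

private theorem sum_lt (B : ℕ) (c : ℕ → ℕ) (h : ∀ k, c k < B) : ∀ n, ∑ k ∈ range n, c k * B ^ k < B ^ n
  | 0 => Nat.one_pos
  | n + 1 => by
    rw [sum_range_succ, pow_succ']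
    exact lt_of_lt_of_le (Nat.add_lt_add_right (sum_lt B c h n) _) (by
      rw [add_comm, ← Nat.succ_mul]; exact Nat.mul_le_mul_right _ (h n))

private theorem land_dig (w m : ℕ) (hm : m < 2 ^ w) : ∀ (n : ℕ) (c : ℕ → ℕ), (∀ k, c k < 2 ^ w) →
    (∑ k ∈ range n, c k * (2 ^ w) ^ k) &&& (∑ k ∈ range n, m * (2 ^ w) ^ k) = 0 → ∀ k < n, c k &&& m = 0
  | 0, _, _, _, k, hk => absurd hk (Nat.not_lt_zero k)
  | n + 1, c, hc, h, k, hk => by
    have e : ∀ d : ℕ → ℕ, ∑ k ∈ range (n + 1), d k * (2 ^ w) ^ k = d 0 + 2 ^ w * ∑ k ∈ range n, d (k + 1) * (2 ^ w) ^ k := fun d => by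
      rw [sum_range_succ', pow_zero, mul_one, add_comm, mul_sum]
      exact congrArg _ (sum_congr rfl fun k _ => by rw [pow_succ', mul_left_comm])
    rw [e c, e fun _ => m] at h
    cases k with
    | zero =>
      have := congrArg (· % 2 ^ w) h
      simpa only [Nat.and_mod_two_pow, Nat.add_mul_mod_self_left, Nat.mod_eq_of_lt hm, Nat.mod_eq_of_lt (hc 0), Nat.zero_mod] using this
    | succ k =>
      have := congrArg (· / 2 ^ w) h
      simp only [Nat.and_div_two_pow, Nat.add_mul_div_left _ _ (Nat.two_pow_pos w), Nat.div_eq_of_lt hm, Nat.div_eq_of_lt (hc 0),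
        Nat.zero_div, Nat.zero_add] at this
      exact land_dig w m hm n (fun k => c (k + 1)) (fun k => hc _) this k (Nat.lt_of_succ_lt_succ hk)

/-- the sum of `n` powers of `2 ^ w` -/
private def jj (w n : ℕ) : ℕ := Nat.div (Nat.sub (Nat.pow 2 (Nat.mul w n)) 1) (Nat.sub (Nat.pow 2 w) 1)

private theorem jj_eq {w : ℕ} (hw : w ≠ 0) (n : ℕ) : jj w n = ∑ k ∈ range n, (2 ^ w) ^ k := by
  rw [Nat.geomSum_eq (Nat.one_lt_two_pow hw), ← pow_mul]; rfl

/-- all digits are divisible by `2 ^ e` -/
private def tst (n e : ℕ) (N : ℤ) : Bool :=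
  Nat.beq (Nat.land (N + Int.ofNat (Nat.mul (Nat.pow 2 40) (Nat.mul (jj 48 n) (jj (Nat.mul 48 n) n)))).toNat
    (Nat.mul (Nat.sub (Nat.pow 2 e) 1) (Nat.mul (jj 48 n) (jj (Nat.mul 48 n) n)))) 0

private theorem key {n e : ℕ} (hn : n ≠ 0) (he : e ≤ 40) (d : ℕ → ℕ → ℤ) (hd : ∀ a b, |d a b| < 2 ^ 40)
    (h : tst n e (∑ b ∈ range n, (∑ a ∈ range n, d a b * (2 ^ 48) ^ a) * (2 ^ (48 * n)) ^ b) = true) (a b : ℕ) (ha : a < n) (hb : b < n) :
    2 ^ e ∣ d a b := by
  have h1 : ∀ a b, (((d a b + 2 ^ 40).toNat : ℕ) : ℤ) = d a b + 2 ^ 40 := fun a b =>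
    Int.toNat_of_nonneg (by linarith only [(abs_lt.1 (hd a b)).1])
  have h2 : ∀ a b, (d a b + 2 ^ 40).toNat < 2 ^ 48 := fun a b => by
    have := (abs_lt.1 (hd a b)).2
    have := h1 a b
    omega
  have h3 : 2 ^ e - 1 < 2 ^ 48 := lt_of_le_of_lt (Nat.sub_le _ _) (Nat.pow_lt_pow_right (by decide) (by omega))
  have h4 := Nat.eq_of_beq_eq_true h
  have e1 : (∑ b ∈ range n, (∑ a ∈ range n, d a b * (2 ^ 48) ^ a) * (2 ^ (48 * n)) ^ b) +
      Int.ofNat (Nat.mul (Nat.pow 2 40) (Nat.mul (jj 48 n) (jj (Nat.mul 48 n) n))) =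
      ((∑ b ∈ range n, (∑ a ∈ range n, (d a b + 2 ^ 40).toNat * (2 ^ 48) ^ a) * (2 ^ (48 * n)) ^ b : ℕ) : ℤ) := by
    show _ + ((2 ^ 40 * (jj 48 n * jj (48 * n) n) : ℕ) : ℤ) = _
    rw [jj_eq (by decide), jj_eq (Nat.mul_ne_zero (by decide) hn)]
    simp only [Nat.cast_sum, Nat.cast_mul, Nat.cast_pow, Nat.cast_ofNat, h1, add_mul, sum_add_distrib]
    rw [← mul_sum, ← mul_sum, mul_assoc]
  have e2 : Nat.mul (Nat.sub (Nat.pow 2 e) 1) (Nat.mul (jj 48 n) (jj (Nat.mul 48 n) n)) =
      ∑ b ∈ range n, (∑ a ∈ range n, (2 ^ e - 1) * (2 ^ 48) ^ a) * (2 ^ (48 * n)) ^ b := by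
    show (2 ^ e - 1) * (jj 48 n * jj (48 * n) n) = _
    rw [jj_eq (by decide), jj_eq (Nat.mul_ne_zero (by decide) hn), ← mul_sum, ← mul_sum, mul_assoc]
  rw [e1, e2, Int.toNat_natCast] at h4
  have h5 := land_dig 48 _ h3 n _ (fun k => h2 k b) (land_dig (48 * n) _ (by rw [pow_mul]; exact sum_lt _ _ (fun _ => h3) n) n _
    (fun k => by rw [pow_mul]; exact sum_lt _ _ (fun a => h2 a k) n) h4 b hb) a ha
  rw [Nat.and_two_pow_sub_one_eq_mod] at h5
  have h6 : ((2 ^ e : ℕ) : ℤ) ∣ d a b + 2 ^ 40 := h1 a b ▸ Int.natCast_dvd_natCast.2 (Nat.dvd_of_mod_eq_zero h5)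
  rw [Nat.cast_pow, Nat.cast_ofNat] at h6
  exact (dvd_add_left (pow_dvd_pow 2 he)).1 h6

private theorem abs_sum {f : ℕ → ℤ} {c : ℤ} (h : ∀ i, |f i| ≤ c) : |∑ i ∈ range 24, f i| ≤ 24 * c :=
  (abs_sum_le_sum_abs _ _).trans ((sum_le_card_nsmul _ _ c fun i _ => h i).trans (by rw [card_range, nsmul_eq_mul]; rfl))

private theorem abs_mul' {a b c d : ℤ} (h : |a| ≤ c) (h' : |b| ≤ d) : |a * b| ≤ c * d :=
  (abs_mul a b).trans_le (mul_le_mul h h' (abs_nonneg _) ((abs_nonneg _).trans h))

/-- matrix times vector -/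
private noncomputable def mv (A : List (List ℤ)) (l : List ℤ) : List ℤ := List.rec [] (fun r _ ih => dk r l 0 0 :: ih) A

private theorem mv_len (l : List ℤ) : ∀ A : List (List ℤ), (mv A l).length = A.length
  | [] => rfl
  | _ :: A => congrArg (· + 1) (mv_len l A)

private theorem mv_get (l : List ℤ) : ∀ (A : List (List ℤ)) (i : ℕ), (mv A l).getD i 0 = dotL (A.getD i []) l
  | [], _ => rfl
  | r :: _, 0 => dk0 r l
  | _ :: A, i + 1 => mv_get l A i

private theorem mv_sum {A : List (List ℤ)} (h : sh A = true) (l : List ℤ) (i : ℕ) :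
    (mv A l).getD i 0 = ∑ j ∈ range 24, en A i j * l.getD j 0 := (mv_get l A i).trans (sum_range_getD _ l 24 (sh_le h i)).symm

/-- powers -/
private def pw (w : ℕ) : List ℤ := (List.range 24).map fun j => Int.ofNat (Nat.pow 2 (Nat.mul w j))

private theorem pw_get (w : ℕ) {j : ℕ} (hj : j ∈ range 24) : (pw w).getD j 0 = (2 ^ w) ^ j := by
  rw [pw, List.getD_eq_getElem _ _ (by rw [List.length_map, List.length_range]; exact mem_range.1 hj), List.getElem_map,
    List.getElem_range, ← pow_mul]
  exact Nat.cast_pow 2 _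

/-- the product of the transpose of `A` and `B` is `c` times the identity -/
private noncomputable def prd (A B : List (List ℤ)) (c : ℤ) : Bool :=
  tst 24 40 (dk (mv A (pw 48)) (mv B (pw 1152)) 0 0 - c * dk (pw 48) (pw 1152) 0 0)

private theorem prd_spec {A B : List (List ℤ)} {c : ℤ} (hA : sh A = true) (hB : sh B = true) (hl : A.length = 24) (hc : |c| ≤ 64)
    (h : prd A B c = true) {a b : ℕ} (ha : a < 24) (hb : b < 24) : ∑ i ∈ range 24, en A i a * en B i b = if a = b then c else 0 := by
  have h1 : ∀ a b, |∑ i ∈ range 24, en A i a * en B i b - if a = b then c else 0| < 2 ^ 40 := fun a b =>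
    lt_of_le_of_lt ((abs_sub _ _).trans (add_le_add (abs_sum fun i => abs_mul' (sh_abs hA i a) (sh_abs hB i b))
      (show _ ≤ 64 by split_ifs; exacts [hc, by decide]))) (by decide)
  refine sub_eq_zero.1 (Int.eq_zero_of_abs_lt_dvd (key (n := 24) (by decide) le_rfl _ h1 ?_ a b ha hb) (h1 a b))
  rw [← h, prd, dk0, dk0, ← sum_range_getD _ _ 24 ((mv_len _ A).trans hl).le, ← sum_range_getD (pw 48) _ 24 (by decide)]
  congr 1
  simp only [sub_mul, sum_sub_distrib, mv_sum hA, mv_sum hB]
  congr 1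
  · simp only [sum_mul, mul_sum]
    rw [sum_comm]
    refine (sum_congr rfl fun a _ => sum_comm).trans (sum_comm.trans (sum_congr rfl fun i _ => sum_comm.trans
      (sum_congr rfl fun b hb => sum_congr rfl fun a ha => ?_)))
    rw [pw_get _ ha, pw_get _ hb]; ring
  · rw [mul_sum]
    refine sum_congr rfl fun b hb => ?_
    rw [sum_eq_single b (fun a _ h => by rw [if_neg h, zero_mul]) (fun h => absurd hb h), if_pos rfl, pw_get _ hb, pw_get _ hb, mul_assoc]

/-- the rows, packed -/
private noncomputable def pk (X : ℤ) (A : List (List ℤ)) : List ℤ :=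
  List.rec (List.replicate 24 0) (fun g _ s => List.zipWith (fun a b => a + X * b) g s) A

private theorem pk_spec (X : ℤ) : ∀ A : List (List ℤ), sh A = true → (pk X A).length = 24 ∧
    ∀ j < 24, (pk X A).getD j 0 = ∑ a ∈ range A.length, en A a j * X ^ a
  | [], _ => ⟨rfl, show ∀ j < 24, (List.replicate 24 (0 : ℤ)).getD j 0 = 0 by decide⟩
  | g :: A, h => by
    have hg := sh_len h List.mem_cons_self
    obtain ⟨h1, h2⟩ := pk_spec X A (Bool.and_eq_true_iff.1 h).2
    have h3 : (List.zipWith (fun a b => a + X * b) g (pk X A)).length = 24 := by rw [List.length_zipWith, hg, h1]; rfl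
    refine ⟨h3, fun j hj => ?_⟩
    show (List.zipWith (fun a b => a + X * b) g (pk X A)).getD j 0 = _
    rw [List.getD_eq_getElem _ _ (h3 ▸ hj), List.getElem_zipWith, ← List.getD_eq_getElem _ 0, ← List.getD_eq_getElem _ 0, h2 j hj,
      List.length_cons, sum_range_succ', add_comm, pow_zero, mul_one, mul_sum]
    exact congrArg₂ _ (sum_congr rfl fun a _ => by rw [pow_succ', mul_left_comm]; rfl) rfl

private theorem sh_gens : sh gens = true ∧ gens.length = 49 := by decide +kernel

/-- the packed generators -/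
private def cf (w : ℕ) : List ℤ :=
  ((List.range 23).map fun j => Int.ofNat (Nat.add (Nat.add (Nat.pow 2 (Nat.add (Nat.mul w j) 2)) (Nat.shiftLeft (Nat.mod (Nat.shiftLeft
    ([0, 5, 7, 10, 11, 14, 15, 17, 19, 20, 21, 22].foldr (fun t s => Nat.add (Nat.pow 2 (Nat.mul w t)) s) 0) (Nat.mul w j))
    (Nat.sub (Nat.pow 2 (Nat.mul w 23)) 1)) (Nat.succ (Nat.mul w 23))))
    (Nat.add (Nat.pow 2 (Nat.succ (Nat.mul w 47))) (Nat.pow 2 (Nat.mul w 48))))) ++
  [Int.subNatNat (Nat.add (Nat.pow 2 (Nat.add (Nat.mul w 46) 3)) (Nat.pow 2 (Nat.succ (Nat.mul w 47))))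
    (Nat.add (Nat.mul 4 (jj w 23)) (Nat.mul 3 (Nat.pow 2 (Nat.mul w 48))))]

private theorem cf_eq : cf 2352 = pk (Int.ofNat (Nat.pow 2 2352)) gens ∧ cf 48 = pk (Int.ofNat (Nat.pow 2 48)) gens := by decide +kernel

/-- the values of the form on the generators are divisible by 64 -/
private noncomputable def prs (R : List (List ℤ)) : Bool := tst 49 6 (dk (cf 2352) (mv R (cf 48)) 0 0)

private theorem prs_spec {R : List (List ℤ)} (hR : sh R = true) (h : prs R = true) (a b : ℕ) (ha : a < 49) (hb : b < 49) :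
    64 ∣ ∑ i ∈ range 24, en gens b i * ∑ j ∈ range 24, en R i j * en gens a j := by
  refine key (n := 49) (e := 6) (by decide) (by decide) (fun a b => ∑ i ∈ range 24, en gens b i * ∑ j ∈ range 24, en R i j * en gens a j)
    (fun a b => lt_of_le_of_lt (abs_sum fun i => abs_mul' (sh_abs sh_gens.1 b i)
      (abs_sum fun j => abs_mul' (sh_abs hR i j) (sh_abs sh_gens.1 a j))) (by decide)) ?_ a b ha hb
  have e : ∀ w : ℕ, Int.ofNat (Nat.pow 2 w) = 2 ^ w := fun w => Nat.cast_pow 2 w
  refine (congrArg (tst 49 6) ?_).trans h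
  rw [cf_eq.1, cf_eq.2, dk0, ← sum_range_getD _ _ 24 (pk_spec _ _ sh_gens.1).1.le, e, e, show 48 * 49 = 2352 from rfl, sum_congr rfl fun i hi => congrArg₂ _ ((pk_spec _ _ sh_gens.1).2 i (mem_range.1 hi)) ((mv_sum hR _ i).trans
    (sum_congr rfl fun j hj => congrArg _ ((pk_spec _ _ sh_gens.1).2 j (mem_range.1 hj)))), sh_gens.2]
  simp only [sum_mul, mul_sum]
  refine (sum_congr rfl fun b _ => sum_comm).trans (sum_comm.trans (sum_congr rfl fun i _ => ?_))
  refine (sum_congr rfl fun b _ => sum_comm).trans (sum_comm.trans (sum_congr rfl fun j _ => sum_comm.trans ?_))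
  exact sum_congr rfl fun a _ => sum_congr rfl fun b _ => by ring

/-- a basis among the generators -/
private def sel : List ℕ := [0, 2, 4, 5, 9, 12, 13, 15, 16, 21, 22, 23, 24, 27, 29, 36, 38, 39, 40, 42, 43, 44, 46, 48]

/-- the dual basis -/
private noncomputable def du : List (List ℤ) :=
  (by
  refine (?fq9001 : (fun (Oz : (n : Nat) → OfNat Int n → Int) (Iz : (n : Nat) → OfNat Int n) (Gz : Int → Int) => ((pk61l (fun i1 => (pk61l (fun i2 => (pk61y Oz Iz Gz (pk61d (nat_lit 11) 
    (nat_lit 0x16093ef4168000001540000005be1800020f49e0bc0000027e00027800004008011729db049810020056a80100263a1880123d4ea0b4010022ba0082a802000000000bf50083cc3800000b7c000003300bc0012028006000000160000140000000000005020e360500000004c00000014e0600007710e01c0000008e000078000000000008f3e065c978000008dc0000027009c000e01f004000000110000100000000000007f36057c838000007bc0000022007c000c01b0040000000f00000c0000000000001005e0a0100000000e00000003e0000001702e0000000001e000000000000000004f21035c4f8000004bc0000015003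c000781000200000009000008000000000000180ae1201c0000001a00000006e0200002705e0000000002e00003800000000000983fe6a09c0000009400000028e0a0000e71fe03c0000011e0000f8000000000000802e040080000000600000001e0000000700e0000000000e000000000000000000f0700bc0f8000000fc0000004001c000180400000000002000004000000000000873905dc8b80000083c0000024009c000d01d004000000100000100000000100003b18827c3b80000038c000000f803c000580c80100000007000006000000000020843765b0880000007f000000236070000c71ae03c000000f60000b8000000000005c25e3f05c004000580000001860600008b12e02c000000a600009800000000000af4a87acb5800008abc000002f00cc0010c2600500000014800014000000000000431c82dc4580000040c0200012003c000640e00200000007800006000000000000240fe1a0280000002500000409e0300003b08600c00000046000038000000000003f19829c3d8000003ac0000010802c0205c0c80200000007000004000000000000130700ac118000000fc0000004800c000180380100200002000000000000000000c050e860c6000000bb0000003360d00012728e04c0000416600015800000000000c85468b0ce000000c20000003560e00012f2a605c0000017601015800000000000d4596930dc000000ce00000038e0d0001432c605c0000018e00015804)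 i2))) (Nat.mul (nat_lit 24) i1) (Nat.mul (nat_lit 24) (Nat.succ i1)) List.nil)) (nat_lit 0) (nat_lit 24) List.nil) : List (List ℤ)))
    = ?xq9001 → (List (List ℤ))) ?hq9001; (case hq9001 => (set_option maxRecDepth 1000000 in conv => lhs; reduce)); intro _; exact ?xq9001 (@OfNat.ofNat Int) (@instOfNat) (@Neg.neg Int Int.instNegInt) : List (List ℤ))

private theorem du_ok : (sh du = true ∧ du.length = 24 ∧ du.all leechB = true) ∧ sh (sel.map fun a => gens.getD a []) = true ∧
    prd du (sel.map fun a => gens.getD a []) 8 = true ∧ ∀ s < 24, sel.getD s 0 < 49 ∧ (sel.map fun a => gens.getD a []).getD s [] =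
      gens.getD (sel.getD s 0) [] := by decide +kernel

private theorem maskL_lt : ∀ l : List ℤ, maskL l < 2 ^ l.length
  | [] => Nat.one_pos
  | a :: t => by
    have := maskL_lt t
    show (a % 2).toNat + 2 * maskL t < 2 ^ (t.length + 1)
    omega

private theorem leechB_of {l : List ℤ} (hl : l.length = 24) (h : vec l ∈ leechLattice) : leechB l = true := by
  obtain ⟨m, z, h1, h2, h3⟩ := (LeechSet.mem_leechLattice_iff' _).1 h
  have h0 : l.headD 0 = m + 2 * z (GolayBase.pt 0) := by
    rw [← h1, vec_apply, GolayBase.idx_pt (by decide)]; cases l <;> rfl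
  have h4 : ∀ i (hi : i < l.length), l[i] = m + 2 * z (GolayBase.pt i) := fun i hi => by
    rw [← h1, vec_apply, GolayBase.idx_pt (hl ▸ hi), List.getD_eq_getElem _ _ hi]
  rw [sum_vec l hl.le] at h2
  have h5 := (GolayBase.mem_golayCode_iff _).1 (golayCode.add_mem h3 (golayCode.smul_mem ((m / 2 : ℤ) : ZMod 2) LeechSet.one_mem_golayCode))
  simp only [leechB, Bool.and_eq_true, List.all_eq_true, decide_eq_true_eq]
  refine ⟨⟨⟨hl ▸ Nat.beq_refl _, fun a ha => ?_⟩, by have : l.sum % 8 = 4 * m % 8 := h2; omega⟩, ?_⟩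
  · obtain ⟨i, hi, rfl⟩ := List.getElem_of_mem ha
    have := h4 i hi
    omega
  · convert h5 using 2
    refine GolayBase.eq_of_testBit_idx (by have := maskL_lt (l.map fun a => (a - l.headD 0 % 2) / 2); rwa [List.length_map, hl] at this)
      (GolayBase.maskW_lt _) fun p => ?_
    have hp : GolayBase.idx p < l.length := hl ▸ GolayBase.idx_lt p
    rw [testBit_maskL, GolayBase.testBit_maskW, List.getD_eq_getElem _ _ (by rwa [List.length_map]), List.getElem_map, h4 _ hp,
      GolayBase.pt_idx, decide_eq_decide, Pi.add_apply, Pi.smul_apply, Pi.one_apply, smul_eq_mul, mul_one, ← Int.cast_add, Ne,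
      ZMod.intCast_zmod_eq_zero_iff_dvd, Nat.cast_ofNat]
    omega

private theorem pres_of {A : List (List ℤ)} (hl : A.length = 24)
    (h : ∀ a b, a < 49 → b < 49 → 64 ∣ ∑ i ∈ range 24, en gens b i * ∑ j ∈ range 24, en A i j * en gens a j) : presB A = true := by
  obtain ⟨⟨d1, d2, d3⟩, d4, d5, d6⟩ := du_ok
  refine List.all_eq_true.2 fun g hg => ?_
  obtain ⟨a, ha, rfl⟩ := List.getElem_of_mem hg
  rw [← List.getD_eq_getElem _ [] ha]
  have e1 : ∀ i, dotL (gens.getD a []) (A.getD i []) = ∑ j ∈ range 24, en A i j * en gens a j := fun i =>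
    (sum_range_getD _ _ 24 (sh_le sh_gens.1 a)).symm.trans (sum_congr rfl fun j _ => mul_comm _ _)
  have h1 : ∀ s, ∃ c : ℤ, s < 24 → ∑ i ∈ range 24, en (sel.map fun a => gens.getD a []) s i * dotL (gens.getD a []) (A.getD i []) = 64 * c :=
    fun s => by
      by_cases hs : s < 24
      · obtain ⟨c, hc⟩ := h a _ (sh_gens.2 ▸ ha) (d6 s hs).1
        exact ⟨c, fun _ => by simp only [e1]; rw [← hc]; unfold en; rw [(d6 s hs).2]⟩
      · exact ⟨0, fun h => absurd h hs⟩
  choose c hc using h1
  have h2 : ∀ i < 24, dotL (gens.getD a []) (A.getD i []) = 8 * ∑ s ∈ range 24, c s * en du s i := fun i hi => by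
    refine mul_left_cancel₀ (show (8 : ℤ) ≠ 0 by decide) ?_
    have e2 : ∑ j ∈ range 24, (∑ s ∈ range 24, en du s i * en (sel.map fun a => gens.getD a []) s j) * dotL (gens.getD a []) (A.getD j []) =
        8 * dotL (gens.getD a []) (A.getD i []) := by
      rw [sum_eq_single i (fun j hj h => by rw [prd_spec d1 d4 d2 (by decide) d5 hi (mem_range.1 hj), if_neg h.symm, zero_mul])
        (fun h => absurd (mem_range.2 hi) h), prd_spec d1 d4 d2 (by decide) d5 hi hi, if_pos rfl]
    rw [← e2]
    simp only [sum_mul, mul_sum, mul_assoc]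
    rw [sum_comm]
    exact sum_congr rfl fun s hs => by rw [← mul_sum, hc s (mem_range.1 hs)]; ring
  refine Bool.and_eq_true_iff.2 ⟨List.all_eq_true.2 fun r hr => decide_eq_true ?_, leechB_of (by rw [List.length_map, hl]) ?_⟩
  · obtain ⟨i, hi, rfl⟩ := List.getElem_of_mem hr
    rw [← List.getD_eq_getElem _ [] hi, h2 i (hl ▸ hi)]
    exact Int.mul_emod_right _ _
  · have e3 : vec (A.map fun r => dotL (gens.getD a []) r / 8) = ∑ s ∈ range 24, c s • vec (du.getD s []) := funext fun p => by
      have hp : GolayBase.idx p < A.length := hl ▸ GolayBase.idx_lt p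
      rw [vec_apply, List.getD_eq_getElem _ _ (by rwa [List.length_map]), List.getElem_map, ← List.getD_eq_getElem _ [] hp,
        h2 _ (GolayBase.idx_lt p), Int.mul_ediv_cancel_left _ (by decide), Finset.sum_apply]
      rfl
    rw [e3]
    exact sum_mem fun s hs => leechLattice.zsmul_mem
      (vec_mem_of_leechB (List.all_eq_true.1 d3 _ (getD_mem_of_lt _ [] (d2 ▸ mem_range.1 hs)))) _

/-- all checks -/
private noncomputable def okq (R C : List (List ℤ)) : Bool :=
  Nat.beq R.length 24 && Nat.beq C.length 24 && sh R && sh C && trZ R C && prd R R 64 && prd C C 64 && prs R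

private theorem ok_of {R C : List (List ℤ)} (h : okq R C = true) : Ok R C := by
  simp only [okq, Bool.and_eq_true] at h
  obtain ⟨⟨⟨⟨⟨⟨⟨h1, h2⟩, h3⟩, h4⟩, h5⟩, h6⟩, h7⟩, h8⟩ := h
  have hR := Nat.eq_of_beq_eq_true h1
  have hC := Nat.eq_of_beq_eq_true h2
  have ht : ∀ i < 24, ∀ j < 24, en R i j = en C j i := fun i hi j hj => trZ_spec h5 i j (hR ▸ hi) (hC ▸ hj)
  have ble : ∀ {M : List (List ℤ)}, sh M = true → (M.all fun r => Nat.ble r.length 24) = true := fun hM =>
    List.all_eq_true.2 fun r hr => Nat.ble_eq_true_of_le (sh_len hM hr).le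
  have orth : ∀ {A B : List (List ℤ)}, sh A = true → sh B = true → A.length = 24 → (∀ i < 24, ∀ j < 24, en A i j = en B j i) →
      prd A A 64 = true → orthB B = true := fun {A B} hA hB hl ht hp =>
    List.all_eq_true.2 fun i hi => List.all_eq_true.2 fun j hj => decide_eq_true (by
      rw [← prd_spec hA hA hl (by decide) hp (List.mem_range.1 hi) (List.mem_range.1 hj), ← sum_range_getD _ _ 24 (sh_le hB i)]
      exact sum_congr rfl fun k hk => (congrArg₂ _ (ht k (mem_range.1 hk) i (List.mem_range.1 hi))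
        (ht k (mem_range.1 hk) j (List.mem_range.1 hj))).symm)
  refine ⟨hR, hC, ble h3, ble h4, List.all_eq_true.2 fun i hi => List.all_eq_true.2 fun j hj =>
    decide_eq_true (ht i (List.mem_range.1 hi) j (List.mem_range.1 hj)), orth h4 h3 hC (fun i hi j hj => (ht j hj i hi).symm) h7,
    orth h3 h4 hR ht h6, pres_of hR (prs_spec h3 h8), pres_of hC fun a b ha hb => ?_⟩
  convert prs_spec h3 h8 b a hb ha using 1
  simp only [mul_sum]
  rw [sum_comm]
  exact sum_congr rfl fun i hi => sum_congr rfl fun j hj => by rw [ht i (mem_range.1 hi) j (mem_range.1 hj)]; ring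

section
open Cfsg.Agent.CoOneType.CoEval (ap length_ap)
open Cfsg.Agent.LThreeMB.Fix (addL mulL res halfB latB getD_addL length_addL vec_addL lat_spec length_of_leechB tri)

private def tn (R : List (List ℤ)) : ℕ → List ℤ → List ℤ
  | 0, _ => []
  | n + 1, l => addL l (tn R n (ap R l))

private theorem getD_mulL (c : ℤ) (l : List ℤ) (j : ℕ) : (mulL c l).getD j 0 = c * l.getD j 0 := by
  have : (l.map fun a => c * a).getD j (c * 0) = c * l.getD j 0 := List.getD_map (f := fun a => c * a) ..
  rwa [mul_zero] at this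

private theorem dcomm {r l : List ℤ} (hr : r.length ≤ 24) (hl : l.length ≤ 24) : dotL r l = dotL l r := by
  rw [← dotInt_vec _ _ hr, dotInt_comm, dotInt_vec _ _ hl]

private def Lt (l : List ℤ) : Prop := l.length = 24 ∧ vec l ∈ leechLattice

private def Bd (c : ℤ) (l : List ℤ) : Prop := ∀ j, |l.getD j 0| ≤ c

private def Pq (s : ℤ) (F : ℕ → List ℤ) (G : List ℤ) : Prop :=
  ∀ j < 24, G.getD j 0 = s * ∑ a ∈ range 49, (F a).getD j 0 * (2 ^ 256) ^ a

private theorem ap_get {R : List (List ℤ)} (l : List ℤ) {j : ℕ} (hj : j < R.length) :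
    (ap R l).getD j 0 = dotL l (R.getD j []) / 8 := by
  show (R.map fun r => dotL l r / 8).getD j 0 = _
  rw [List.getD_eq_getElem _ _ (by rwa [List.length_map]), List.getElem_map, List.getD_eq_getElem _ _ hj]

private theorem lt_ap {R : List (List ℤ)} (hl : R.length = 24) (hp : presB R = true) {l : List ℤ} (h : Lt l) :
    Lt (ap R l) ∧ ∀ j < 24, 8 ∣ dotL l (R.getD j []) := by
  obtain ⟨h1, h2⟩ := act_mem hl hp _ h.2
  refine ⟨⟨length_ap hl l, (act_vec hl h.1.le) ▸ h2⟩, fun j hj => ?_⟩
  have h3 : (8 : ℤ) ∣ dotInt (vec l) (vec (R.getD (GolayBase.idx (GolayBase.pt j)) [])) := h1 _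
  rwa [GolayBase.idx_pt hj, dotInt_vec _ _ h.1.le] at h3

private theorem lt_tn {R : List (List ℤ)} (hl : R.length = 24) (hp : presB R = true) : ∀ (n : ℕ) {l : List ℤ}, Lt l →
    (tn R n l).length ≤ 24 ∧ vec (tn R n l) ∈ leechLattice
  | 0, _, _ => ⟨Nat.zero_le _, (show (0 : GolayPt → ℤ) = vec [] from funext fun _ => rfl) ▸ leechLattice.zero_mem⟩
  | n + 1, l, h => by
    obtain ⟨h1, h2⟩ := lt_tn hl hp n (lt_ap hl hp h).1
    show (addL l (tn R n (ap R l))).length ≤ 24 ∧ vec (addL l (tn R n (ap R l))) ∈ leechLattice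
    rw [length_addL, vec_addL]
    exact ⟨max_le h.1.le h1, leechLattice.add_mem h.2 h2⟩

private theorem bd_dot {c : ℤ} {l r : List ℤ} (hr : r.length ≤ 24) (h : Bd c l) (h' : Bd 1000 r) : |dotL r l| ≤ 24000 * c := by
  rw [← sum_range_getD _ _ 24 hr]
  exact (abs_sum fun i => abs_mul' (h' i) (h i)).trans_eq (by ring)

private theorem abs_div {x c : ℤ} (h : |x| ≤ c) : |x / 8| ≤ c := by
  rw [abs_le] at h ⊢
  omega

private theorem bd_tn {R : List (List ℤ)} (hR : sh R = true) (hl : R.length = 24) : ∀ (n : ℕ) {c : ℤ} {l : List ℤ},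
    l.length = 24 → Bd c l → Bd (32768 ^ n * c) (tn R n l)
  | 0, c, _, _, h => fun j => (show |(0 : ℤ)| ≤ c from abs_zero.trans_le ((abs_nonneg _).trans (h 0))).trans_eq (by ring)
  | n + 1, c, l, h1, h => fun j => by
    have hc : 0 ≤ c := (abs_nonneg _).trans (h 0)
    have h2 : Bd (24000 * c) (ap R l) := fun i => by
      by_cases hi : i < R.length
      · rw [ap_get l hi, dcomm h1.le (sh_le hR i)]
        exact abs_div (bd_dot (sh_le hR i) h (sh_abs hR i))
      · rw [List.getD_eq_default _ _ (by rw [length_ap hl, ← hl]; exact not_lt.1 hi), abs_zero]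
        exact mul_nonneg (by decide) hc
    have h3 := bd_tn hR hl n (length_ap hl l) h2 j
    have h4 : (1 : ℤ) * c ≤ 32768 ^ n * c := mul_le_mul_of_nonneg_right (one_le_pow₀ (by decide)) hc
    show |(addL l (tn R n (ap R l))).getD j 0| ≤ _
    rw [getD_addL, pow_succ]
    refine (abs_add_le _ _).trans ?_
    linarith only [h j, h3, h4, hc]

private theorem bd_res {c : ℤ} {l : List ℤ} (hl : l.length = 24) (h : Bd c l) : ∀ vw : List (List ℤ × List ℤ),
    sh (vw.map Prod.fst) = true → sh (vw.map Prod.snd) = true →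
    (res l vw).length = 24 ∧ Bd ((1 + vw.length * 24000000) * c) (res l vw)
  | [], _, _ => ⟨hl, fun j => (h j).trans_eq (by simp)⟩
  | p :: t, h1, h2 => by
    obtain ⟨h3, h4⟩ := bd_res hl h t (Bool.and_eq_true_iff.1 h1).2 (Bool.and_eq_true_iff.1 h2).2
    have h5 : p.1.length = 24 := sh_len h1 List.mem_cons_self
    have h6 : p.2.length = 24 := sh_len h2 List.mem_cons_self
    refine ⟨?_, fun j => ?_⟩
    · show (addL (p.1.map _) (res l t)).length = 24
      rw [length_addL, List.length_map, h5, h3, max_self]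
    · show |(addL (mulL (-(dotL l p.2 / 8)) p.1) (res l t)).getD j 0| ≤ _
      have h7 : |-(dotL l p.2 / 8)| ≤ 24000 * c := by
        rw [abs_neg, dcomm hl.le h6.le]
        exact abs_div (bd_dot h6.le h (sh_abs h2 0))
      have h8 := abs_mul' h7 (show |p.1.getD j 0| ≤ 1000 from sh_abs h1 0 j)
      rw [getD_addL, getD_mulL, List.length_cons, Nat.cast_succ]
      refine (abs_add_le _ _).trans ?_
      linarith only [h8, h4 j]

private theorem dot_pq {s : ℤ} {F : ℕ → List ℤ} {G : List ℤ} (h : Pq s F G) {r : List ℤ} (hr : r.length ≤ 24) :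
    dotL r G = s * ∑ a ∈ range 49, dotL r (F a) * (2 ^ 256) ^ a := by
  rw [← sum_range_getD _ _ 24 hr, sum_congr rfl fun j hj => congrArg _ (h j (mem_range.1 hj))]
  simp only [← sum_range_getD r _ 24 hr, sum_mul, mul_sum]
  rw [sum_comm]
  exact sum_congr rfl fun a _ => sum_congr rfl fun j _ => by ring

private noncomputable def lq (R : List (List ℤ)) (n : ℕ) : List ℤ → List ℤ → List ℤ :=
  Nat.rec (fun _ A => A) (fun _ ih G A => ih (mv R G) (mulL 8 (addL A G))) n

private theorem lq_spec {R : List (List ℤ)} (hR : sh R = true) (hl : R.length = 24) (hp : presB R = true) :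
    ∀ (n : ℕ) {s : ℤ} {F : ℕ → List ℤ} {G : List ℤ} (A : List ℤ), (∀ a < 49, Lt (F a)) → Pq s F G → ∀ j < 24,
      (lq R n G A).getD j 0 = 8 ^ n * (A.getD j 0 + s * ∑ a ∈ range 49, (tn R n (F a)).getD j 0 * (2 ^ 256) ^ a)
  | 0, s, F, G, A, _, _, j, _ => by
    show A.getD j 0 = 8 ^ 0 * (A.getD j 0 + s * ∑ a ∈ range 49, (0 : ℤ) * (2 ^ 256) ^ a)
    simp only [zero_mul, sum_const_zero, mul_zero, add_zero, pow_zero, one_mul]
  | n + 1, s, F, G, A, hF, hG, j, hj => by
    have h1 : Pq (8 * s) (fun a => ap R (F a)) (mv R G) := fun i hi => by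
      rw [mv_get, dot_pq hG (sh_le hR i), mul_comm 8 s, mul_assoc, mul_sum _ _ 8]
      refine congrArg _ (sum_congr rfl fun a ha => ?_)
      rw [ap_get _ (hl ▸ hi), ← mul_assoc, Int.mul_ediv_cancel' ((lt_ap hl hp (hF a (mem_range.1 ha))).2 i hi),
        dcomm (sh_le hR i) (hF a (mem_range.1 ha)).1.le]
    refine (lq_spec hR hl hp n (mulL 8 (addL A G)) (fun a ha => (lt_ap hl hp (hF a ha)).1) h1 j hj).trans ?_
    show _ = _ * (_ + s * ∑ a ∈ range 49, (addL (F a) (tn R n (ap R (F a)))).getD j 0 * (2 ^ 256) ^ a)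
    simp only [getD_mulL, getD_addL, add_mul, sum_add_distrib, hG j hj]
    ring

private noncomputable def rq (T : List ℤ) (vw : List (List ℤ × List ℤ)) : List ℤ :=
  List.rec (mulL 8 T) (fun p _ ih => addL (mulL (-dk p.2 T 0 0) p.1) ih) vw

private theorem rq_spec {s : ℤ} {F : ℕ → List ℤ} {T : List ℤ} (hF : ∀ a < 49, Lt (F a)) (hT : Pq s F T) :
    ∀ vw : List (List ℤ × List ℤ), latB vw = true → Pq (8 * s) (fun a => res (F a) vw) (rq T vw)
  | [], _ => fun j hj => (getD_mulL 8 T j).trans (by rw [hT j hj, mul_assoc]; rfl)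
  | p :: t, h => fun j hj => by
    have h1 := (lat_spec h List.mem_cons_self).2
    have h2 := (length_of_leechB h1).le
    show (addL (mulL (-dk p.2 T 0 0) p.1) (rq T t)).getD j 0 =
      _ * ∑ a ∈ range 49, (addL (mulL (-(dotL (F a) p.2 / 8)) p.1) (res (F a) t)).getD j 0 * (2 ^ 256) ^ a
    have h3 : ∀ a ∈ range 49, dotL p.2 (F a) * (2 ^ 256) ^ a = 8 * (dotL (F a) p.2 / 8 * (2 ^ 256) ^ a) := fun a ha => by
      have h4 := Cfsg.Agent.MonsterU.Lam2.dvd_dot ⟨_, (hF a (mem_range.1 ha)).2⟩ ⟨_, vec_mem_of_leechB h1⟩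
      rw [dotInt_vec _ _ (hF a (mem_range.1 ha)).1.le] at h4
      rw [← mul_assoc, Int.mul_ediv_cancel' h4, dcomm h2 (hF a (mem_range.1 ha)).1.le]
    rw [getD_addL, getD_mulL, dk0, dot_pq hT h2, sum_congr rfl h3, ← mul_sum, rq_spec hF hT t (Bool.and_eq_true_iff.1 h).2 j hj]
    simp only [getD_mulL, getD_addL, add_mul, sum_add_distrib, neg_mul, sum_neg_distrib, mul_right_comm _ (p.1.getD j 0),
      ← sum_mul]
    ring

private def ts1 (n : ℕ) (N : ℤ) : Bool :=
  Nat.beq (Nat.land (N + Int.ofNat (Nat.mul (Nat.pow 2 255) (jj 256 n))).toNat (Nat.mul 15 (jj 256 n))) 0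

private theorem key1 {n : ℕ} (d : ℕ → ℤ) (hd : ∀ a, |d a| < 2 ^ 255) (h : ts1 n (∑ a ∈ range n, d a * (2 ^ 256) ^ a) = true) (a : ℕ)
    (ha : a < n) : 16 ∣ d a := by
  have h1 : ∀ a, (((d a + 2 ^ 255).toNat : ℕ) : ℤ) = d a + 2 ^ 255 := fun a =>
    Int.toNat_of_nonneg (by linarith only [(abs_lt.1 (hd a)).1])
  have h2 : ∀ a, (d a + 2 ^ 255).toNat < 2 ^ 256 := fun a => by
    have := (abs_lt.1 (hd a)).2
    have := h1 a
    omega
  have h4 := Nat.eq_of_beq_eq_true h
  have e1 : (∑ a ∈ range n, d a * (2 ^ 256) ^ a) + Int.ofNat (Nat.mul (Nat.pow 2 255) (jj 256 n)) =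
      ((∑ a ∈ range n, (d a + 2 ^ 255).toNat * (2 ^ 256) ^ a : ℕ) : ℤ) := by
    show _ + ((2 ^ 255 * jj 256 n : ℕ) : ℤ) = _
    rw [jj_eq (by decide)]
    simp only [Nat.cast_sum, Nat.cast_mul, Nat.cast_pow, Nat.cast_ofNat, h1, add_mul, sum_add_distrib]
    rw [← mul_sum]
  have e2 : Nat.mul 15 (jj 256 n) = ∑ a ∈ range n, 15 * (2 ^ 256) ^ a := by
    show 15 * jj 256 n = _
    rw [jj_eq (by decide), ← mul_sum]
  rw [e1, e2, Int.toNat_natCast] at h4
  have h5 : (d a + 2 ^ 255).toNat &&& (2 ^ 4 - 1) = 0 := land_dig 256 15 (by decide) n _ h2 h4 a ha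
  rw [Nat.and_two_pow_sub_one_eq_mod] at h5
  have := h1 a
  omega

private theorem half_of {l : List ℤ} (hl : l.length = 24)
    (h : ∀ s < 24, 16 ∣ dotL ((sel.map fun a => gens.getD a []).getD s []) l) : halfB l = true := by
  obtain ⟨⟨d1, d2, d3⟩, d4, d5, -⟩ := du_ok
  have h1 : ∀ s, ∃ c : ℤ, s < 24 → ∑ i ∈ range 24, en (sel.map fun a => gens.getD a []) s i * l.getD i 0 = 16 * c := fun s => by
    by_cases hs : s < 24
    · obtain ⟨c, hc⟩ := h s hs
      exact ⟨c, fun _ => (sum_range_getD _ _ 24 (sh_le d4 s)).trans hc⟩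
    · exact ⟨0, fun h => absurd h hs⟩
  choose c hc using h1
  have h2 : ∀ i < 24, l.getD i 0 = 2 * ∑ s ∈ range 24, c s * en du s i := fun i hi => by
    refine mul_left_cancel₀ (show (8 : ℤ) ≠ 0 by decide) ?_
    have e2 : ∑ j ∈ range 24, (∑ s ∈ range 24, en du s i * en (sel.map fun a => gens.getD a []) s j) * l.getD j 0 = 8 * l.getD i 0 := by
      rw [sum_eq_single i (fun j hj h => by rw [prd_spec d1 d4 d2 (by decide) d5 hi (mem_range.1 hj), if_neg h.symm, zero_mul])
        (fun h => absurd (mem_range.2 hi) h), prd_spec d1 d4 d2 (by decide) d5 hi hi, if_pos rfl]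
    rw [← e2]
    simp only [sum_mul, mul_sum, mul_assoc]
    rw [sum_comm]
    exact sum_congr rfl fun s hs => by rw [← mul_sum, hc s (mem_range.1 hs)]; ring
  refine Bool.and_eq_true_iff.2 ⟨List.all_eq_true.2 fun r hr => decide_eq_true ?_, leechB_of (by rw [List.length_map, hl]) ?_⟩
  · obtain ⟨i, hi, rfl⟩ := List.getElem_of_mem hr
    rw [← List.getD_eq_getElem _ 0 hi, h2 i (hl ▸ hi)]
    exact Int.mul_emod_right _ _
  · have e3 : vec (l.map fun a => a / 2) = ∑ s ∈ range 24, c s • vec (du.getD s []) := funext fun p => by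
      have hp : GolayBase.idx p < l.length := hl ▸ GolayBase.idx_lt p
      rw [vec_apply, List.getD_eq_getElem _ _ (by rwa [List.length_map]), List.getElem_map, ← List.getD_eq_getElem _ 0 hp,
        h2 _ (GolayBase.idx_lt p), Int.mul_ediv_cancel_left _ (by decide), Finset.sum_apply]
      rfl
    rw [e3]
    exact sum_mem fun s hs => leechLattice.zsmul_mem
      (vec_mem_of_leechB (List.all_eq_true.1 d3 _ (getD_mem_of_lt _ [] (d2 ▸ mem_range.1 hs)))) _

/-- the check for `1 + R + .. + R ^ n` -/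
private noncomputable def spq (n : ℕ) (R : List (List ℤ)) (vw : List (List ℤ × List ℤ)) : Bool :=
  Nat.beq R.length 24 && sh R && prs R && Nat.ble n 11 && Nat.ble vw.length 24 && sh (vw.map Prod.fst) && sh (vw.map Prod.snd) &&
    latB vw && (mv (sel.map fun a => gens.getD a []) (rq (lq R (Nat.succ n) (pk (Int.ofNat (Nat.pow 2 256)) gens) []) vw)).all
      fun N => ts1 49 (N / Int.ofNat (Nat.pow 8 (Nat.add n 2)))

private theorem spq_spec {n : ℕ} {R : List (List ℤ)} {vw : List (List ℤ × List ℤ)} (h : spq n R vw = true) :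
    (gens.all fun g => halfB (res (tn R (n + 1) g) vw)) = true := by
  simp only [spq, Bool.and_eq_true] at h
  obtain ⟨⟨⟨⟨⟨⟨⟨⟨h1, hR⟩, h3⟩, h4⟩, h5⟩, h6⟩, h7⟩, h8⟩, h9⟩ := h
  have hl := Nat.eq_of_beq_eq_true h1
  have hp := pres_of hl (prs_spec hR h3)
  have d4 := du_ok.2.1
  have hg : ∀ a < 49, Lt (gens.getD a []) := fun a ha =>
    have hm := getD_mem_of_lt gens [] (sh_gens.2 ▸ ha)
    ⟨sh_len sh_gens.1 hm, vec_mem_of_leechB (List.all_eq_true.1 gens_leech _ hm)⟩
  have ht : ∀ a < 49, Lt (tn R (n + 1) (gens.getD a [])) := fun a ha => by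
    refine ⟨?_, (lt_tn hl hp _ (hg a ha)).2⟩
    show (addL _ _).length = 24
    rw [length_addL, (hg a ha).1]
    exact max_eq_left (lt_tn hl hp n (lt_ap hl hp (hg a ha)).1).1
  have p0 : Pq 1 (fun a => gens.getD a []) (pk (Int.ofNat (Nat.pow 2 256)) gens) := fun j hj => by
    rw [(pk_spec _ _ sh_gens.1).2 j hj, sh_gens.2, one_mul, show Int.ofNat (Nat.pow 2 256) = 2 ^ 256 from Nat.cast_pow 2 256]
    rfl
  have p1 : Pq (8 ^ (n + 1)) (fun a => tn R (n + 1) (gens.getD a [])) (lq R (n + 1) (pk (Int.ofNat (Nat.pow 2 256)) gens) []) :=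
    fun j hj => by rw [lq_spec hR hl hp _ [] hg p0 j hj, List.getD_nil, zero_add, one_mul]
  have p2 := rq_spec ht p1 vw h8
  have hb : ∀ a < 49, (res (tn R (n + 1) (gens.getD a [])) vw).length = 24 ∧
      Bd (2 ^ 230) (res (tn R (n + 1) (gens.getD a [])) vw) := fun a ha => by
    obtain ⟨b1, b2⟩ := bd_res (ht a ha).1 (bd_tn hR hl (n + 1) (hg a ha).1 (sh_abs sh_gens.1 a)) vw h6 h7
    refine ⟨b1, fun j => (b2 j).trans ?_⟩
    have b3 : (32768 : ℤ) ^ (n + 1) ≤ 32768 ^ 12 := pow_le_pow_right₀ (by decide) (Nat.succ_le_succ (Nat.le_of_ble_eq_true h4))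
    have b4 : (vw.length : ℤ) ≤ 24 := Int.ofNat_le.2 (Nat.le_of_ble_eq_true h5)
    exact (mul_le_mul (show _ ≤ (1 + 24 * 24000000 : ℤ) by linarith only [b4]) (mul_le_mul_of_nonneg_right b3 (by decide))
      (mul_nonneg (pow_nonneg (by decide) _) (by decide)) (by decide)).trans (by decide)
  refine List.all_eq_true.2 fun g hg' => ?_
  obtain ⟨a, ha, rfl⟩ := List.getElem_of_mem hg'
  rw [← List.getD_eq_getElem _ [] ha]
  rw [sh_gens.2] at ha
  refine half_of (hb a ha).1 fun s hs => ?_
  have k1 := List.all_eq_true.1 h9 _ (getD_mem_of_lt _ 0 (show s < _ by rw [mv_len, List.length_map]; exact hs))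
  rw [mv_get, dot_pq p2 (sh_le d4 s), show Int.ofNat (Nat.pow 8 (Nat.add n 2)) = 8 * 8 ^ (n + 1) from
    (Nat.cast_pow 8 (n + 2)).trans (pow_succ' _ _), Int.mul_ediv_cancel_left _ (by positivity)] at k1
  have k2 := key1 (fun a => if a < 49 then dotL ((sel.map fun a => gens.getD a []).getD s [])
    (res (tn R (n + 1) (gens.getD a [])) vw) else 0) (fun a => by
      split_ifs with ha
      · exact lt_of_le_of_lt (bd_dot (sh_le d4 s) (hb a ha).2 (sh_abs d4 s)) (by decide)
      · decide) (by rw [sum_congr rfl fun a ha => by rw [if_pos (mem_range.1 ha)]]; exact k1) a ha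
  rwa [if_pos ha] at k2

private theorem spanN {n : ℕ} {R : List (List ℤ)} {vw : List (List ℤ × List ℤ)} (h : spq n R vw = true) :
    Cfsg.Agent.MFive.FixN.spanB (n + 1) R vw = true := by
  have e : ∀ (k : ℕ) (l : List ℤ), Cfsg.Agent.MFive.FixN.trn R k l = tn R k l := fun k => by
    induction k with
    | zero => exact fun _ => rfl
    | succ k ih => exact fun l => congrArg (addL l) (ih _)
  exact (congrArg (fun f => gens.all f) (funext fun g => congrArg (fun x => halfB (res x vw)) (e _ g))).trans (spq_spec h)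
end

end Cfsg.Agent.Co0Q_BpSevenCo_Data

/-!
# Explicit elements of `Co0` in the normalizer of an element of order seven (helper32)

`x0` has order 7 and no fixed points, `y0` (a permutation of coordinates) has order 7 and fixed rank 6, `t0` (a
permutation) has order 3 and fixed rank 8 and `t0 x0 t0⁻¹ = x0²`; `g0, h0` (monomial) generate a quaternion group of
order 16 with `g0⁴ = h0² = -1`; `y0, g0, h0` commute with `x0` and `t0`; `n0 x0 n0⁻¹ = x0 y0³`.
The lists are generated by a script and checked by the kernel.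
-/

set_option autoImplicit false
set_option maxRecDepth 100000

namespace Cfsg.Agent.BpSevenCo.Data

open Cfsg Cfsg.Agent.SporadicA Cfsg.Agent.SporadicStructure.Co0Matrix Cfsg.Agent.CoOneType.CoEval
open Cfsg.Agent.LThreeCo1.Ev Cfsg.Agent.MonsterU.Lam2 Cfsg.Agent.LThreeMB.Fix
open Cfsg.Agent.LThreeMB (fr)
open Cfsg.Spor (Co1)

/-- matrix (times 8) -/
def rX : List (List ℤ) :=
  (by
  refine (?fq9002 : ((pk61l (fun i1 => (pk61l (fun i2 => (pk61z (pk61d (nat_lit 4) 
    (nat_lit 0x403040334333004434404003030484000000340080030340047303000000340000730440830304000008430000030440030474000000340070030340030303080000448000040340040304700000330000047340030303070000447000040340040403007070430000030340404040343443003433304003403030443343003444403003730304000007430000030440048303000000340000830440030403000800330008040440303040433444004433403003304040444334003434303003404030434433004443303003030403000700330007040440303030344434003443404003040403008080430000030340304030333344004444304003040304800000330000048340030303000000330800030338030303000000330700030337)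 i2))) (Nat.mul (nat_lit 24) i1) (Nat.mul (nat_lit 24) (Nat.succ i1)) List.nil)) (nat_lit 0) (nat_lit 24) List.nil) : List (List ℤ))
    = ?xq9002 → (List (List ℤ))) ?hq9002; (case hq9002 => (set_option maxRecDepth 1000000 in conv => lhs; reduce)); intro _; exact ?xq9002 : List (List ℤ))

/-- matrix (times 8) -/
def rY : List (List ℤ) :=
  (by
  refine (?fq9003 : ((pk61l (fun i1 => (pk61l (fun i2 => (pk61z (pk61d (nat_lit 5) 
    (nat_lit 0x200) (pk61d (nat_lit 1) 
    (nat_lit 0x2000000004001000000010020000400000200000080000000040000200004000008000100000040000000080000100000008010000800000000400000020000800000002000001) i2)))) (Nat.mul (nat_lit 24) i1) (Nat.mul (nat_lit 24) (Nat.succ i1)) List.nil)) (nat_lit 0) (nat_lit 24) List.nil) : List (List ℤ))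
    = ?xq9003 → (List (List ℤ))) ?hq9003; (case hq9003 => (set_option maxRecDepth 1000000 in conv => lhs; reduce)); intro _; exact ?xq9003 : List (List ℤ))

/-- matrix (times 8) -/
def rT : List (List ℤ) :=
  (by
  refine (?fq9004 : ((pk61l (fun i1 => (pk61l (fun i2 => (pk61z (pk61d (nat_lit 5) 
    (nat_lit 0x200) (pk61d (nat_lit 1) 
    (nat_lit 0x100000080000000020001000000080010000000008000200002000000400000010800000200000000040040000000002400000004000000800008000000004020000000001000100) i2)))) (Nat.mul (nat_lit 24) i1) (Nat.mul (nat_lit 24) (Nat.succ i1)) List.nil)) (nat_lit 0) (nat_lit 24) List.nil) : List (List ℤ))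
    = ?xq9004 → (List (List ℤ))) ?hq9004; (case hq9004 => (set_option maxRecDepth 1000000 in conv => lhs; reduce)); intro _; exact ?xq9004 : List (List ℤ))

/-- matrix (times 8) -/
def rG : List (List ℤ) :=
  (by
  refine (?fq9005 : ((pk61l (fun i1 => (pk61l (fun i2 => (pk61z (pk61d (nat_lit 5) 
    (nat_lit 0x41e0) (pk61d (nat_lit 2) 
    (nat_lit 0x400000000000008000080000000000000400000000000000002100000000000000002000000004000000000000800000000000000040000000000000080040000000000000000000200001000000000000000004000000010000000000000020000000100000000000008000000000000000020800000000000020000000000000000100000000000001000) i2)))) (Nat.mul (nat_lit 24) i1) (Nat.mul (nat_lit 24) (Nat.succ i1)) List.nil)) (nat_lit 0) (nat_lit 24) List.nil) : List (List ℤ))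
    = ?xq9005 → (List (List ℤ))) ?hq9005; (case hq9005 => (set_option maxRecDepth 1000000 in conv => lhs; reduce)); intro _; exact ?xq9005 : List (List ℤ))

/-- matrix (times 8) -/
def rH : List (List ℤ) :=
  (by
  refine (?fq9006 : ((pk61l (fun i1 => (pk61l (fun i2 => (pk61z (pk61d (nat_lit 5) 
    (nat_lit 0x41e0) (pk61d (nat_lit 2) 
    (nat_lit 0x20000000000000000100000000000002000000200000000040000000000000000020000100000000000800000000008000000000400000000000000000008000000000002000000000000008010000000000000000000080000000000400000004000000000001000000000000020000200000000000000000040000001000000000000000400000040000000000) i2)))) (Nat.mul (nat_lit 24) i1) (Nat.mul (nat_lit 24) (Nat.succ i1)) List.nil)) (nat_lit 0) (nat_lit 24) List.nil) : List (List ℤ))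
    = ?xq9006 → (List (List ℤ))) ?hq9006; (case hq9006 => (set_option maxRecDepth 1000000 in conv => lhs; reduce)); intro _; exact ?xq9006 : List (List ℤ))

/-- matrix (times 8) -/
def rN : List (List ℤ) :=
  (by
  refine (?fq9007 : ((pk61l (fun i1 => (pk61l (fun i2 => (pk61z (pk61d (nat_lit 4) 
    (nat_lit 0x480000700300303030030430400000070400403730030340400070000380404030040440300000000300473040030447307008000300304030030340034444343043030304303004400800008300404040030330044334444033030303403004300070000480303040030330034334344034040304304003300000000307403030048330400000000407304040038440034434333034030403404004400000000300303047740340300000000300483040030448300000070300304740040430308007000300304030030340300000000400404037730430470000800300303030030430044344434044030404304004033333334033030404303004033343344044030303404004400700007300404040030330034344334043040403403003) i2))) (Nat.mul (nat_lit 24) i1) (Nat.mul (nat_lit 24) (Nat.succ i1)) List.nil)) (nat_lit 0) (nat_lit 24)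 List.nil) : List (List ℤ))
    = ?xq9007 → (List (List ℤ))) ?hq9007; (case hq9007 => (set_option maxRecDepth 1000000 in conv => lhs; reduce)); intro _; exact ?xq9007 : List (List ℤ))

/-- fixed vectors and dual vectors of `y0` -/
noncomputable def vwY : List (List ℤ × List ℤ) :=
  (by
  refine (?fq9008 : ((pk61l (fun i1 => (_root_.Prod.mk (pk61l (fun i2 => (pk61z (pk61d (nat_lit 4) 
    (nat_lit 0x221212111221222221222226040404000000440000040440004040444004000004000004000000000000000700000008000000000000000800000008000000000000000000000088) i2))) (Nat.mul (nat_lit 24) i1) (Nat.mul (nat_lit 24) (Nat.succ i1)) List.nil) (pk61l (fun i2 => (pk61z (pk61d (nat_lit 5) 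
    (nat_lit 0x8000000000000000000000000000003800000000000000000000000001004000000000000000000000000000081084609822308223082609842108c2084211044108841088411044210846400002008001080010802008421088) i2))) (Nat.mul (nat_lit 24) i1) (Nat.mul (nat_lit 24) (Nat.succ i1)) List.nil))) (nat_lit 0) (nat_lit 6) List.nil) : List (List ℤ × List ℤ))
    = ?xq9008 → (List (List ℤ × List ℤ))) ?hq9008; (case hq9008 => (set_option maxRecDepth 1000000 in conv => lhs; reduce)); intro _; exact ?xq9008 : List (List ℤ × List ℤ))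

/-- a vector fixed by `x0 y0` -/
def fXY : List ℤ := [0, 0, 2, 2, 0, 2, 0, 0, 0, 0, 0, 0, 0, -2, -2, 2, 0, 0, -2, -2, 0, 0, 0, 0]

/-- a dual vector -/
def wXY : List ℤ := [0, 0, 4, 0, 0, 0, 0, 0, 0, 0, 0, 0, 0, 0, 0, 0, 0, 0, 0, 0, 0, 0, 0, -4]

theorem okX : Ok rX (tr rX) := Cfsg.Agent.Co0Q_BpSevenCo_Data.ok_of (by decide +kernel)

theorem okY : Ok rY (tr rY) := Cfsg.Agent.Co0Q_BpSevenCo_Data.ok_of (by decide +kernel)

theorem okT : Ok rT (tr rT) := Cfsg.Agent.Co0Q_BpSevenCo_Data.ok_of (by decide +kernel)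

theorem okG : Ok rG (tr rG) := Cfsg.Agent.Co0Q_BpSevenCo_Data.ok_of (by decide +kernel)

theorem okH : Ok rH (tr rH) := Cfsg.Agent.Co0Q_BpSevenCo_Data.ok_of (by decide +kernel)

theorem okN : Ok rN (tr rN) := Cfsg.Agent.Co0Q_BpSevenCo_Data.ok_of (by decide +kernel)

/-- the matrices -/
def M : ℕ → List (List ℤ)
  | 0 => rX
  | 1 => rY
  | 2 => rT
  | 3 => rG
  | 4 => rH
  | _ => rN

theorem okM (i : ℕ) : Ok (M i) (tr (M i)) := by
  unfold M
  split
  · exact okX
  · exact okY
  · exact okT
  · exact okG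
  · exact okH
  · exact okN

/-- the elements -/
noncomputable def e (i : ℕ) : Co0 := Cfsg.Agent.SporadicStructure.Co0Matrix.mk (okM i)

theorem rep (i : ℕ) : Rep (e i) (M i) := rep_mk (okM i)

/-- order 7, fixed rank 0 -/
noncomputable abbrev x0 : Co0 := e 0
/-- order 7, fixed rank 6 -/
noncomputable abbrev y0 : Co0 := e 1
/-- order 3, fixed rank 8 -/
noncomputable abbrev t0 : Co0 := e 2
/-- order 8 -/
noncomputable abbrev g0 : Co0 := e 3
/-- order 4 -/
noncomputable abbrev h0 : Co0 := e 4
/-- conjugating element -/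
noncomputable abbrev n0 : Co0 := e 5

/-- Equality of words in `Co0`. -/
theorem word_eq {w w' : List ℕ} (h : eqL (foldZ M w betaL) (foldZ M w' betaL) = true) :
    (w.map e).prod = (w'.map e).prod := by
  rw [foldZ_eq, foldZ_eq] at h
  have h1 := (fold_spec rep w (l := betaL) (v := beta) (by decide) rfl).2
  have h2 := (fold_spec rep w' (l := betaL) (v := beta) (by decide) rfl).2
  rw [eqL_eq h, ← h2] at h1
  exact eq_of_fix (Subtype.ext h1)

/-- A word equal to `-1`. -/
theorem word_neg {w : List ℕ} (h : eqL (foldZ M w betaL) negbetaL = true) :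
    (w.map e).prod = Co0Basic.negCo0 := by
  rw [foldZ_eq] at h
  exact eq_neg_of_negB rep h

theorem x0_pow : x0 ^ 7 = 1 := by
  have h := word_eq (w := List.replicate 7 0) (w' := []) (by decide +kernel)
  rwa [List.map_replicate, List.prod_replicate, List.map_nil, List.prod_nil] at h

theorem y0_pow : y0 ^ 7 = 1 := by
  have h := word_eq (w := List.replicate 7 1) (w' := []) (by decide +kernel)
  rwa [List.map_replicate, List.prod_replicate, List.map_nil, List.prod_nil] at h

theorem xy : x0 * y0 = y0 * x0 := by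
  have h := word_eq (w := [0, 1]) (w' := [1, 0]) (by decide +kernel)
  simpa only [List.map_cons, List.map_nil, List.prod_cons, List.prod_nil, mul_one] using h

theorem tx : t0 * x0 = x0 * (x0 * t0) := by
  have h := word_eq (w := [2, 0]) (w' := [0, 0, 2]) (by decide +kernel)
  simpa only [List.map_cons, List.map_nil, List.prod_cons, List.prod_nil, mul_one] using h

theorem ty : t0 * y0 = y0 * t0 := by
  have h := word_eq (w := [2, 1]) (w' := [1, 2]) (by decide +kernel)
  simpa only [List.map_cons, List.map_nil, List.prod_cons, List.prod_nil, mul_one] using h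

theorem gx : g0 * x0 = x0 * g0 := by
  have h := word_eq (w := [3, 0]) (w' := [0, 3]) (by decide +kernel)
  simpa only [List.map_cons, List.map_nil, List.prod_cons, List.prod_nil, mul_one] using h

theorem hx : h0 * x0 = x0 * h0 := by
  have h := word_eq (w := [4, 0]) (w' := [0, 4]) (by decide +kernel)
  simpa only [List.map_cons, List.map_nil, List.prod_cons, List.prod_nil, mul_one] using h

theorem nx : n0 * x0 = x0 * (y0 * (y0 * (y0 * n0))) := by
  have h := word_eq (w := [5, 0]) (w' := [0, 1, 1, 1, 5]) (by decide +kernel)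
  simpa only [List.map_cons, List.map_nil, List.prod_cons, List.prod_nil, mul_one] using h

theorem h0_sq : h0 * h0 = Co0Basic.negCo0 := by
  have h := word_neg (w := [4, 4]) (by decide +kernel)
  simpa only [List.map_cons, List.map_nil, List.prod_cons, List.prod_nil, mul_one] using h

theorem txt : t0 * x0 * t0⁻¹ = x0 ^ 2 := by
  rw [mul_inv_eq_iff_eq_mul, tx, pow_two, mul_assoc]

theorem nxn : n0 * x0 * n0⁻¹ = x0 * y0 ^ 3 := by
  rw [mul_inv_eq_iff_eq_mul, nx]
  simp only [pow_succ, pow_zero, one_mul, mul_assoc]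

theorem spanX : Cfsg.Agent.MFive.FixN.spanB 7 rX [] = true := Cfsg.Agent.Co0Q_BpSevenCo_Data.spanN (n := 6) (by decide +kernel)

theorem fr_x0 : fr (QuotientGroup.mk x0 : Co1) = 1 := by
  have h := Cfsg.Agent.MFive.FixN.card_fix (n := 7) (by decide) (rep 0) (vw := []) rfl rfl rfl spanX
  rwa [List.length_nil, pow_zero] at h

theorem latY : latB vwY = true := by decide +kernel

theorem fixY : fixB rY vwY = true := by decide +kernel

theorem dualY : dualB vwY = true := by decide +kernel

theorem spanY : Cfsg.Agent.MFive.FixN.spanB 7 rY vwY = true := Cfsg.Agent.Co0Q_BpSevenCo_Data.spanN (n := 6) (by decide +kernel)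

theorem fr_y0 : fr (QuotientGroup.mk y0 : Co1) = 2 ^ 6 :=
  Cfsg.Agent.MFive.FixN.card_fix (n := 7) (by decide) (rep 1) latY fixY dualY spanY

theorem fXY_leech : leechB fXY = true := by decide +kernel

/-- the lattice vector -/
noncomputable def fxy : leechLattice := el fXY

theorem fXY_fix : eqL (foldZ M [0, 1] fXY) fXY = true := by decide +kernel

theorem fxy_fix : (x0 * y0) • cl fxy = cl fxy := by
  rw [smul_cl]
  congr 1
  apply Subtype.ext
  have h1 := (fold_spec rep [0, 1] (l := fXY) (v := fxy) (by decide) (el_coe fXY_leech)).2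
  have h2 := fXY_fix
  rw [foldZ_eq] at h2
  rw [eqL_eq h2] at h1
  have h3 : (([0, 1] : List ℕ).map e).prod = x0 * y0 := by
    simp only [List.map_cons, List.map_nil, List.prod_cons, List.prod_nil, mul_one]
  rw [h3] at h1
  exact h1.trans (el_coe fXY_leech).symm

/-- the zero vector -/
def zL : List ℤ := List.replicate 24 0

theorem fxy_ne : cl fxy ≠ 0 := by
  have h0 : leechB zL = true := by decide +kernel
  have h1 := cl_el_ne fXY_leech h0 (show leechB wXY = true by decide +kernel) (by decide +kernel)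
  intro h
  apply h1
  rw [show cl (el fXY) = 0 from h]
  symm
  have h2 : el zL = 0 := by
    apply Subtype.ext
    rw [el_coe h0]
    funext p
    show zL.getD (GolayBase.idx p) 0 = 0
    rw [zL]
    have hp := GolayBase.idx_lt p
    generalize GolayBase.idx p = i at hp ⊢
    rw [List.getD_eq_getElem _ _ (by rw [List.length_replicate]; exact hp), List.getElem_replicate]
  rw [h2, map_zero]

end Cfsg.Agent.BpSevenCo.Data

private theorem dce_535925ac6e40 : _root_.True := by
  try have : _root_.True := by simp only [_root_.Cfsg.Agent.BpSevenCo.Data.zL.eq_1]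
  exact _root_.True.intro
end

-- part: BpSevenCo/Conj
section
prune_inst 0x200000000000000040002642c2000100000000014100000404818403000080209280020010008a040038004811000070020000000000020041180080002a62825281000020000000a805180c00000000000000000000000000000000000000000
set_option linter.all false
open scoped Cfsg.Agent.FastGrp

/-!
# The elements of order seven of `Co1` without fixed points on `Λ/2Λ` (helper32)

`conj_pow` : they are conjugate to powers of `x = mk x0`.  Proof: `⟨x, y⟩` is a Sylow 7-subgroup; its four lines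
`⟨x y^m⟩`, `m = 0, 3, 5, 6`, are conjugate (by `n`, `t`), and the elements of the other four lines have fixed points.
-/

set_option autoImplicit false

namespace Cfsg.Agent.BpSevenCo.Conj

open Cfsg Subgroup Cfsg.Agent.BpSevenCo.Data Cfsg.Agent.MonsterU.Lam2
open Cfsg.Agent.LThreeMB (fr fr_conj)
open Cfsg.Spor (Co1)

theorem finite_co1 : Finite Co1 := Nat.finite_of_card_ne_zero (by rw [Cfsg.Agent.S0399.result.2]; norm_num)

/-- the image of `x0` -/
noncomputable def x : Co1 := QuotientGroup.mk x0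
/-- the image of `y0` -/
noncomputable def y : Co1 := QuotientGroup.mk y0
/-- the image of `t0` -/
noncomputable def t : Co1 := QuotientGroup.mk t0
/-- the image of `n0` -/
noncomputable def n : Co1 := QuotientGroup.mk n0

/-- the projection -/
noncomputable abbrev q : Co0 →* Co1 := QuotientGroup.mk' (center Co0)

theorem x_pow : x ^ 7 = 1 := by
  have h := congrArg q x0_pow
  rwa [map_pow, map_one] at h

theorem y_pow : y ^ 7 = 1 := by
  have h := congrArg q y0_pow
  rwa [map_pow, map_one] at h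

theorem comm_xy : x * y = y * x := by
  have h := congrArg q xy
  rwa [map_mul, map_mul] at h

theorem comm_ty : t * y = y * t := by
  have h := congrArg q ty
  rwa [map_mul, map_mul] at h

theorem txt1 : t * x * t⁻¹ = x ^ 2 := by
  have h := congrArg q txt
  rwa [map_mul, map_mul, map_inv, map_pow] at h

theorem nxn1 : n * x * n⁻¹ = x * y ^ 3 := by
  have h := congrArg q nxn
  rwa [map_mul, map_mul, map_inv, map_mul, map_pow] at h

theorem fr_x : fr x = 1 := fr_x0

theorem fr_y : fr y = 2 ^ 6 := fr_y0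

/-- `s` has a nonzero fixed vector -/
def NF (s : Co1) : Prop := ∃ v : L2, v ≠ 0 ∧ s • v = v

theorem not_nf {s : Co1} (h : fr s = 1) : ¬ NF s := by
  rintro ⟨v, hv, hs⟩
  obtain ⟨h1, -⟩ := Nat.card_eq_one_iff_unique.1 h
  have h2 := Subtype.ext_iff.1 (h1.elim ⟨v, hs⟩ ⟨0, smul_zero s⟩)
  exact hv h2

theorem nf_of_ne {s : Co1} (h : fr s ≠ 1) : NF s := by
  by_contra hn
  apply h
  have : Nonempty {v : L2 // s • v = v} := ⟨⟨0, smul_zero s⟩⟩
  rw [fr, Nat.card_eq_one_iff_unique]
  refine ⟨⟨fun a b => ?_⟩, this⟩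
  have h1 : ∀ a : {v : L2 // s • v = v}, (a : L2) = 0 := by
    intro a
    by_contra ha
    exact hn ⟨a, ha, a.2⟩
  exact Subtype.ext ((h1 a).trans (h1 b).symm)

theorem NF.pow {s : Co1} (h : NF s) (k : ℕ) : NF (s ^ k) := by
  obtain ⟨v, hv, hs⟩ := h
  refine ⟨v, hv, ?_⟩
  induction k with
  | zero => rw [pow_zero, one_smul]
  | succ k ih => rw [pow_succ, mul_smul, hs, ih]

theorem NF.conj {s : Co1} (h : NF s) (g : Co1) : NF (g * s * g⁻¹) := by
  obtain ⟨v, hv, hs⟩ := h
  refine ⟨g • v, fun h0 => hv ?_, ?_⟩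
  · rw [← inv_smul_smul g v, h0, smul_zero]
  · rw [mul_smul, mul_smul, inv_smul_smul, hs]

/-- `s` has a fixed vector or is conjugate to a power of `x` -/
def Good (s : Co1) : Prop := NF s ∨ ∃ (g : Co1) (i : ℕ), g * s * g⁻¹ = x ^ i

theorem Good.pow {s : Co1} (h : Good s) (k : ℕ) : Good (s ^ k) := by
  rcases h with h | ⟨g, i, h⟩
  · exact Or.inl (h.pow k)
  · refine Or.inr ⟨g, i * k, ?_⟩
    rw [pow_mul, ← h, conj_pow]

theorem Good.conj {s : Co1} (h : Good s) (g : Co1) : Good (g * s * g⁻¹) := by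
  rcases h with h | ⟨k, i, h⟩
  · exact Or.inl (h.conj g)
  · refine Or.inr ⟨k * g⁻¹, i, ?_⟩
    rw [← h]
    group

theorem Good.of_conj {s g : Co1} (h : Good (g * s * g⁻¹)) : Good s := by
  have h1 := h.conj g⁻¹
  have e : g⁻¹ * (g * s * g⁻¹) * g⁻¹⁻¹ = s := by group
  rwa [e] at h1

theorem cxy (i j : ℕ) : Commute (x ^ i) (y ^ j) := (show Commute x y from comm_xy).pow_pow i j

theorem pow_mod {g : Co1} (hg : g ^ 7 = 1) (i : ℕ) : g ^ i = g ^ (i % 7) := by
  conv_lhs => rw [← Nat.mod_add_div i 7, pow_add, pow_mul, hg, one_pow, mul_one]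

theorem xy_pow (i m : ℕ) : (x * y ^ m) ^ i = x ^ i * y ^ (m * i) := by
  have h : Commute x (y ^ m) := by simpa only [pow_one] using cxy 1 m
  rw [h.mul_pow, ← pow_mul]

theorem good_four {m : ℕ} (h : Good (x * y ^ m)) : Good (x * y ^ (4 * m)) := by
  have h1 := (h.conj t).pow 4
  have h2 : t * (x * y ^ m) * t⁻¹ = x ^ 2 * y ^ m := by
    have h3 : t * y ^ m * t⁻¹ = y ^ m := by
      rw [mul_inv_eq_iff_eq_mul]
      exact (show Commute t y from comm_ty).pow_right m
    calc t * (x * y ^ m) * t⁻¹ = (t * x * t⁻¹) * (t * y ^ m * t⁻¹) := by group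
      _ = x ^ 2 * y ^ m := by rw [txt1, h3]
  rw [h2, (cxy 2 m).mul_pow, ← pow_mul, ← pow_mul] at h1
  rwa [pow_mod x_pow (2 * 4), pow_one, mul_comm m 4] at h1

theorem good_zero : Good (x * y ^ 0) := by
  refine Or.inr ⟨1, 1, ?_⟩
  rw [pow_zero, mul_one, inv_one, mul_one, one_mul, pow_one]

theorem good_one : Good (x * y ^ 1) := by
  refine Or.inl ⟨cl fxy, fxy_ne, ?_⟩
  rw [pow_one]
  exact fxy_fix

theorem good_three : Good (x * y ^ 3) := by
  rw [← nxn1]
  refine Good.conj (Or.inr ⟨1, 1, ?_⟩) n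
  rw [inv_one, mul_one, one_mul, pow_one]

theorem good_mod {m k : ℕ} (h : Good (x * y ^ m)) (e : m % 7 = k) : Good (x * y ^ k) := by
  rw [← e, ← pow_mod y_pow]
  exact h

theorem good_line (m : ℕ) : Good (x * y ^ m) := by
  rw [pow_mod y_pow m]
  have hm : m % 7 < 7 := Nat.mod_lt _ (by norm_num)
  have h4 : Good (x * y ^ 4) := good_mod (good_four good_one) rfl
  have h2 : Good (x * y ^ 2) := good_mod (good_four h4) rfl
  have h5 : Good (x * y ^ 5) := good_mod (good_four good_three) rfl
  have h6 : Good (x * y ^ 6) := good_mod (good_four h5) rfl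
  have hk : m % 7 = 0 ∨ m % 7 = 1 ∨ m % 7 = 2 ∨ m % 7 = 3 ∨ m % 7 = 4 ∨ m % 7 = 5 ∨ m % 7 = 6 := by omega
  rcases hk with h | h | h | h | h | h | h
  · rw [h]; exact good_zero
  · rw [h]; exact good_one
  · rw [h]; exact h2
  · rw [h]; exact good_three
  · rw [h]; exact h4
  · rw [h]; exact h5
  · rw [h]; exact h6

theorem nf_y : NF y := nf_of_ne (by rw [fr_y]; norm_num)

theorem good_all (i j : ℕ) : Good (x ^ i * y ^ j) := by
  by_cases hi : i % 7 = 0
  · rw [pow_mod x_pow i, hi, pow_zero, one_mul]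
    exact Good.pow (Or.inl nf_y) j
  · have h := (good_line (j * i ^ 5)).pow i
    rw [xy_pow] at h
    have h1 : (j * i ^ 5 * i) % 7 = j % 7 := by
      have h2 : i ^ 6 % 7 = 1 := by
        rw [Nat.pow_mod]
        have : i % 7 < 7 := Nat.mod_lt _ (by norm_num)
        generalize i % 7 = k at this hi
        interval_cases k <;> simp_all
      have h3 : j * i ^ 5 * i = j * i ^ 6 := by ring
      rw [h3, Nat.mul_mod, h2, mul_one, Nat.mod_mod]
    rwa [pow_mod y_pow, h1, ← pow_mod y_pow] at h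

theorem orderOf_x : orderOf x = 7 := by
  have : Fact (Nat.Prime 7) := ⟨by norm_num⟩
  refine orderOf_eq_prime x_pow fun h => ?_
  obtain ⟨v, hv, -⟩ := nf_y
  exact not_nf fr_x ⟨v, hv, by rw [h, one_smul]⟩

theorem y_ne : y ≠ 1 := by
  intro h
  have h1 := fr_y
  have h2 : fr (1 : Co1) = 2 ^ 24 := by
    rw [fr, ← Cfsg.Agent.MonsterU.Lam2.card_L2]
    exact Nat.card_congr (Equiv.subtypeUnivEquiv fun v => one_smul _ v)
  rw [h, h2] at h1
  norm_num at h1

theorem orderOf_y : orderOf y = 7 := by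
  have : Fact (Nat.Prime 7) := ⟨by norm_num⟩
  exact orderOf_eq_prime y_pow y_ne

/-- a nontrivial power of `x` has no fixed vector -/
theorem not_nf_pow {i : ℕ} (hi : i % 7 ≠ 0) : ¬ NF (x ^ i) := by
  intro h
  have h1 := h.pow (i ^ 5)
  rw [← pow_mul] at h1
  have h2 : (i * i ^ 5) % 7 = 1 := by
    have h3 : i * i ^ 5 = i ^ 6 := by ring
    rw [h3, Nat.pow_mod]
    have : i % 7 < 7 := Nat.mod_lt _ (by norm_num)
    generalize i % 7 = k at this hi
    interval_cases k <;> simp_all
  rw [pow_mod x_pow, h2, pow_one] at h1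
  exact not_nf fr_x h1

theorem y_notMem : y ∉ zpowers x := by
  have := finite_co1
  intro h
  rw [← mem_powers_iff_mem_zpowers] at h
  obtain ⟨i, hi⟩ := h
  have hi' : x ^ i = y := hi
  have h1 : i % 7 ≠ 0 := by
    intro h0
    rw [pow_mod x_pow, h0, pow_zero] at hi'
    exact y_ne hi'.symm
  apply not_nf_pow h1
  rw [hi']
  exact nf_y

/-- the homomorphism onto `⟨x, y⟩` -/
noncomputable def phi : Multiplicative ℤ × Multiplicative ℤ →* Co1 :=
  MonoidHom.noncommCoprod (zpowersHom Co1 x) (zpowersHom Co1 y) fun a b => by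
    show Commute (x ^ a.toAdd) (y ^ b.toAdd)
    exact (show Commute x y from comm_xy).zpow_zpow _ _

theorem phi_apply (a : Multiplicative ℤ × Multiplicative ℤ) : phi a = x ^ a.1.toAdd * y ^ a.2.toAdd := rfl

theorem mem_range {g : Co1} (hg : g ∈ phi.range) : ∃ i j : ℕ, g = x ^ i * y ^ j := by
  have := finite_co1
  obtain ⟨a, rfl⟩ := hg
  have h1 : x ^ a.1.toAdd ∈ Submonoid.powers x := mem_powers_iff_mem_zpowers.2 ⟨_, rfl⟩
  have h2 : y ^ a.2.toAdd ∈ Submonoid.powers y := mem_powers_iff_mem_zpowers.2 ⟨_, rfl⟩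
  obtain ⟨i, hi⟩ := h1
  obtain ⟨j, hj⟩ := h2
  exact ⟨i, j, by rw [phi_apply]; exact congrArg₂ _ hi.symm hj.symm⟩

theorem x_mem : x ∈ phi.range := ⟨(Multiplicative.ofAdd 1, 1), by
  rw [phi_apply]
  show x ^ (1 : ℤ) * y ^ (0 : ℤ) = x
  rw [zpow_one, zpow_zero, mul_one]⟩

theorem y_mem : y ∈ phi.range := ⟨(1, Multiplicative.ofAdd 1), by
  rw [phi_apply]
  show x ^ (0 : ℤ) * y ^ (1 : ℤ) = y
  rw [zpow_one, zpow_zero, one_mul]⟩

theorem isPGroup : IsPGroup 7 phi.range := by
  rintro ⟨g, hg⟩
  obtain ⟨i, j, rfl⟩ := mem_range hg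
  refine ⟨1, Subtype.ext ?_⟩
  show (x ^ i * y ^ j) ^ 7 ^ 1 = 1
  rw [pow_one, (cxy i j).mul_pow, ← pow_mul, ← pow_mul, mul_comm i, mul_comm j, pow_mul, pow_mul, x_pow, y_pow,
    one_pow, one_pow, one_mul]

/-- `⟨x, y⟩` is a Sylow 7-subgroup. -/
theorem sylow : ∃ S : Sylow 7 Co1, (S : Subgroup Co1) = phi.range := by
  have := finite_co1
  have h7 : Nat.Prime 7 := by norm_num
  have : Fact (Nat.Prime 7) := ⟨h7⟩
  obtain ⟨S, hS⟩ := isPGroup.exists_le_sylow
  refine ⟨S, ?_⟩
  have hSc : Nat.card S ∣ 7 ^ 2 := by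
    obtain ⟨k, hk⟩ := IsPGroup.iff_card.1 S.isPGroup'
    have h1 : Nat.card S ∣ Nat.card Co1 := Subgroup.card_subgroup_dvd_card _
    rw [hk, Cfsg.Agent.S0399.result.2] at h1
    rw [hk]
    apply pow_dvd_pow
    by_contra hc
    have h2 := (pow_dvd_pow 7 (show 3 ≤ k by omega)).trans h1
    norm_num at h2
  have hle : zpowers x ≤ phi.range := by
    rw [zpowers_le]
    exact x_mem
  have hd : Nat.card ↥phi.range ∣ 7 ^ 2 := (Subgroup.card_dvd_of_le hS).trans hSc
  have h49 : Nat.card ↥phi.range = 7 ^ 2 := by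
    obtain ⟨k, hk, hk2⟩ := (Nat.dvd_prime_pow h7).1 hd
    have hx : Nat.card ↥(zpowers x) = 7 := by rw [Nat.card_zpowers, orderOf_x]
    have h3 : 7 ∣ Nat.card ↥phi.range := by
      rw [← hx]
      exact Subgroup.card_dvd_of_le hle
    have h4 : Nat.card ↥phi.range ≠ 7 := by
      intro h5
      have h6 := Subgroup.eq_of_le_of_card_ge hle (by rw [h5, hx])
      exact y_notMem (by rw [h6]; exact y_mem)
    rw [hk2] at h3 h4 ⊢
    interval_cases k
    · norm_num at h3
    · norm_num at h4
    · rfl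
  symm
  apply Subgroup.eq_of_le_of_card_ge hS
  rw [h49]
  exact Nat.le_of_dvd (by norm_num) hSc

/-- **Elements of order seven without fixed points.** -/
theorem good_of_order {s : Co1} (hs : orderOf s = 7) : Good s := by
  have := finite_co1
  have h7 : Nat.Prime 7 := by norm_num
  have : Fact (Nat.Prime 7) := ⟨h7⟩
  obtain ⟨S, hS⟩ := sylow
  have hp : IsPGroup 7 (zpowers s) := by
    rw [IsPGroup.iff_card]
    exact ⟨1, by rw [Nat.card_zpowers, hs, pow_one]⟩
  obtain ⟨S', hS'⟩ := hp.exists_le_sylow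
  obtain ⟨g, hg⟩ := MulAction.exists_smul_eq Co1 S' S
  apply Good.of_conj (g := g)
  have h1 : g * s * g⁻¹ ∈ (S : Subgroup Co1) := by
    rw [← hg, Sylow.coe_subgroup_smul]
    exact ⟨s, hS' (mem_zpowers s), rfl⟩
  rw [hS] at h1
  obtain ⟨i, j, h2⟩ := mem_range h1
  rw [h2]
  exact good_all i j

/-- **An element of order seven of `Co1` without fixed points on `Λ/2Λ` is conjugate to a power of `x`.** -/
theorem conj_pow {s : Co1} (hs : orderOf s = 7) (h1 : fr s = 1) :
    ∃ (g : Co1) (i : ℕ), i % 7 ≠ 0 ∧ g * s * g⁻¹ = x ^ i := by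
  rcases good_of_order hs with h | ⟨g, i, h⟩
  · exact absurd h (not_nf h1)
  · refine ⟨g, i, fun h0 => ?_, h⟩
    rw [pow_mod x_pow, h0, pow_zero, conj_eq_one_iff] at h
    rw [h, orderOf_one] at hs
    norm_num at hs

/-- The number of fixed points of an element of order seven is 1 or more; the subgroups without fixed points are
conjugate. -/
theorem wclass : Cfsg.Agent.MFive.WClassOf 7 1 := by
  intro s u hs hu hfs hfu
  obtain ⟨g, i, hi, h⟩ := conj_pow hs hfs
  obtain ⟨k, j, hj, h'⟩ := conj_pow hu hfu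
  refine ⟨k⁻¹ * g, i * j ^ 5, ?_⟩
  have h2 : x ^ i = (x ^ j) ^ (i * j ^ 5) := by
    rw [← pow_mul, pow_mod x_pow i, pow_mod x_pow (j * (i * j ^ 5))]
    congr 1
    have h3 : j ^ 6 % 7 = 1 := by
      rw [Nat.pow_mod]
      have : j % 7 < 7 := Nat.mod_lt _ (by norm_num)
      generalize j % 7 = k at this hj
      interval_cases k <;> simp_all only [_root_.ne_eq, _root_.Nat.ofNat_pos, _root_.not_true_eq_false, _root_.Nat.one_lt_ofNat, _root_.one_ne_zero, _root_.not_false_eq_true, _root_.one_pow, _root_.Nat.one_mod, _root_.Nat.reduceLT, _root_.OfNat.ofNat_ne_zero, _root_.Nat.reducePow, _root_.Nat.reduceMod, _root_.Nat.lt_add_one]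
    have h4 : j * (i * j ^ 5) = i * j ^ 6 := by ring
    rw [h4, Nat.mul_mod, h3, mul_one, Nat.mod_mod]
  calc k⁻¹ * g * s * (k⁻¹ * g)⁻¹ = k⁻¹ * (g * s * g⁻¹) * k := by group
    _ = k⁻¹ * (k * u * k⁻¹) ^ (i * j ^ 5) * k := by rw [h, h2, h']
    _ = k⁻¹ * (k * u ^ (i * j ^ 5) * k⁻¹) * k := by rw [_root_.conj_pow]
    _ = u ^ (i * j ^ 5) := by group

end Cfsg.Agent.BpSevenCo.Conj
end
end
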